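import Cfsg.Agent.Fusion.UniqueInvolution
import Cfsg.Agent.Fusion.PGroup
import Cfsg.Agent.Coprime.Tools
import Cfsg.Prelude.Def_Transfer
import Mathlib.GroupTheory.PGroup
import Mathlib.GroupTheory.Sylow
import Mathlib.Tactic.Group

/-!
Groups in which `p`-subgroups of equal order are conjugate: what this says inside a `p`-group.
-/

set_option autoImplicit false

namespace Cfsg.Agent.EqOrderConj

open Subgroup

variable {G : Type*} [Group G]

/-- Any two `p`-subgroups of equal order are conjugate. -/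
def ConjP (p : ℕ) (G : Type*) [Group G] : Prop :=
  ∀ H K : Subgroup G, IsPGroup p H → IsPGroup p K → Nat.card H = Nat.card K →
    ∃ g : G, K = H.map (MulAut.conj g).toMonoidHom

theorem comm_transfer {p : ℕ} (hD : ConjP p G) (H K : Subgroup G) (hH : IsPGroup p H)
    (hK : IsPGroup p K) (hc : Nat.card H = Nat.card K) (hcomm : ∀ a ∈ H, ∀ b ∈ H, Commute a b) :
    ∀ a ∈ K, ∀ b ∈ K, Commute a b := by
  obtain ⟨g, rfl⟩ := hD H K hH hK hc
  rintro _ ⟨a, ha, rfl⟩ _ ⟨b, hb, rfl⟩
  exact (hcomm a ha b hb).map _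

theorem cyclic_transfer {p : ℕ} (hD : ConjP p G) (H K : Subgroup G) (hH : IsPGroup p H)
    (hK : IsPGroup p K) (hc : Nat.card H = Nat.card K) (hcyc : IsCyclic H) : IsCyclic K := by
  obtain ⟨g, rfl⟩ := hD H K hH hK hc
  exact isCyclic_of_surjective (H.equivMapOfInjective _ (MulEquiv.injective _)).toMonoidHom
    (MulEquiv.surjective _)

theorem sub_transfer {p : ℕ} (hD : ConjP p G) (P : Subgroup G) (hP : IsPGroup p P)
    (H K : Subgroup P) (hc : Nat.card H = Nat.card K) :
    ((∀ a ∈ H, ∀ b ∈ H, Commute a b) → ∀ a ∈ K, ∀ b ∈ K, Commute a b) ∧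
      (IsCyclic H → IsCyclic K) := by
  have hH := (hP.to_subgroup H).map P.subtype
  have hK := (hP.to_subgroup K).map P.subtype
  have hcard : Nat.card (H.map P.subtype) = Nat.card (K.map P.subtype) := by
    rw [card_map_of_injective P.subtype_injective, card_map_of_injective P.subtype_injective, hc]
  constructor
  · intro hcomm a ha b hb
    have h := comm_transfer hD _ _ hH hK hcard (by
      rintro _ ⟨u, hu, rfl⟩ _ ⟨v, hv, rfl⟩; exact (hcomm u hu v hv).map _)
      (a : G) (mem_map_of_mem _ ha) (b : G) (mem_map_of_mem _ hb)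
    exact Subtype.ext h
  · intro hcyc
    have h := cyclic_transfer hD _ _ hH hK hcard
      (isCyclic_of_surjective (H.equivMapOfInjective _ P.subtype_injective).toMonoidHom
        (MulEquiv.surjective _))
    exact isCyclic_of_surjective (K.equivMapOfInjective _ P.subtype_injective).symm.toMonoidHom
      (MulEquiv.surjective _)

/-- A subgroup of order `p` joined with a normalised subgroup not containing it. -/
theorem card_sup_prime [Finite G] {p : ℕ} [hp : Fact p.Prime] (M : Subgroup G) {y : G}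
    (hy : orderOf y = p) (hyM : y ∉ M) (hn : zpowers y ≤ normalizer (M : Set G)) :
    Nat.card ↥(M ⊔ zpowers y) = Nat.card M * p := by
  have hd : M ⊓ zpowers y = ⊥ := by
    have hdvd : Nat.card ↥(M ⊓ zpowers y) ∣ p := by
      have := card_dvd_of_le (show M ⊓ zpowers y ≤ zpowers y from inf_le_right)
      rwa [Nat.card_zpowers, hy] at this
    rcases (Nat.dvd_prime hp.out).1 hdvd with h | h
    · exact card_eq_one.1 h
    · exfalso
      have := eq_of_le_of_card_ge (inf_le_right : M ⊓ zpowers y ≤ zpowers y)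
        (by rw [h, Nat.card_zpowers, hy])
      exact hyM ((this.symm ▸ mem_zpowers y : y ∈ M ⊓ zpowers y)).1
  rw [Coprime.card_sup_eq_mul hn hd, Nat.card_zpowers, hy]

/-- A parity map on the quaternion group of even parameter. -/
def parityFun {n : ℕ} (h : 2 ∣ 2 * n) : QuaternionGroup n → ZMod 2
  | .a i => ZMod.castHom h (ZMod 2) i
  | .xa i => ZMod.castHom h (ZMod 2) i

theorem parityFun_mul {n : ℕ} [NeZero n] (hn : Even n) (h : 2 ∣ 2 * n) (u v : QuaternionGroup n) :
    parityFun h (u * v) = parityFun h u + parityFun h v := by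
  have h2 : ∀ z : ZMod 2, -z = z := by decide
  have hcn : ((n : ZMod 2)) = 0 := (ZMod.natCast_eq_zero_iff_even).2 hn
  cases u <;> cases v <;>
    simp [parityFun, h2, hcn, sub_eq_add_neg, add_comm]

theorem quaternion_small {p : ℕ} (hD : ConjP p G) (P : Subgroup G) (hP : IsPGroup p P) (k : ℕ)
    (hk : 1 ≤ k) (e : P ≃* QuaternionGroup (2 ^ k)) : k = 1 := by
  by_contra hk1
  set n := 2 ^ k with hn
  have hn0 : NeZero n := ⟨by positivity⟩
  have heven : Even n := by rw [hn]; exact (Nat.even_pow.2 ⟨even_two, by omega⟩)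
  have hn4 : 4 ≤ n := by
    rw [hn]; calc 4 = 2 ^ 2 := by norm_num
      _ ≤ 2 ^ k := Nat.pow_le_pow_right (by norm_num) (by omega)
  let f : QuaternionGroup n →* Multiplicative (ZMod 2) :=
    { toFun := fun u => Multiplicative.ofAdd (parityFun (dvd_mul_right 2 n) u)
      map_one' := by
        show Multiplicative.ofAdd (parityFun (dvd_mul_right 2 n) (QuaternionGroup.a 0)) = 1
        simp [parityFun]
      map_mul' := fun u v => by rw [parityFun_mul heven, ofAdd_add] }
  have hsurj : Function.Surjective f := by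
    intro z
    obtain ⟨i, hi⟩ := ZMod.castHom_surjective (dvd_mul_right 2 n) (Multiplicative.toAdd z)
    exact ⟨QuaternionGroup.a i, by
      show Multiplicative.ofAdd (parityFun (dvd_mul_right 2 n) (QuaternionGroup.a i)) = z
      simp only [parityFun, hi, ofAdd_toAdd]⟩
  have hker : Nat.card f.ker = 2 * n := by
    have h1 : f.ker.index = 2 := by
      rw [index_ker, Nat.card_congr (Equiv.ofBijective _ ⟨Subtype.val_injective,
        fun z => ⟨⟨z, hsurj z⟩, rfl⟩⟩ : f.range ≃ Multiplicative (ZMod 2))]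
      simp [Nat.card_eq_fintype_card]
    have h2 := f.ker.card_mul_index
    rw [h1, Nat.card_eq_fintype_card (α := QuaternionGroup n), QuaternionGroup.card] at h2
    omega
  have hA : Nat.card (zpowers (QuaternionGroup.a 1 : QuaternionGroup n)) = 2 * n := by
    rw [Nat.card_zpowers, QuaternionGroup.orderOf_a_one]
  let e' : QuaternionGroup n →* P := e.symm.toMonoidHom
  have hinj : Function.Injective e' := e.symm.injective
  have hres := (sub_transfer hD P hP ((zpowers (QuaternionGroup.a 1)).map e') (f.ker.map e')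
    (by rw [card_map_of_injective hinj, card_map_of_injective hinj, hA, hker])).1
    (by
      rintro _ ⟨u, hu, rfl⟩ _ ⟨v, hv, rfl⟩
      obtain ⟨i, rfl⟩ := mem_zpowers_iff.1 hu
      obtain ⟨j, rfl⟩ := mem_zpowers_iff.1 hv
      exact (Commute.zpow_zpow_self _ i j).map _)
  have hm1 : (QuaternionGroup.a 2 : QuaternionGroup n) ∈ f.ker := by
    show Multiplicative.ofAdd (parityFun (dvd_mul_right 2 n) (QuaternionGroup.a 2)) = 1
    simp only [parityFun, map_ofNat]
    decide
  have hm2 : (QuaternionGroup.xa 0 : QuaternionGroup n) ∈ f.ker := by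
    show Multiplicative.ofAdd (parityFun (dvd_mul_right 2 n) (QuaternionGroup.xa 0)) = 1
    simp [parityFun]
  have hc := hres (e' (QuaternionGroup.a 2)) (mem_map_of_mem _ hm1)
    (e' (QuaternionGroup.xa 0)) (mem_map_of_mem _ hm2)
  have hc' : QuaternionGroup.a 2 * QuaternionGroup.xa 0
      = (QuaternionGroup.xa 0 * QuaternionGroup.a 2 : QuaternionGroup n) := by
    apply hinj
    rw [map_mul, map_mul]; exact hc
  simp only [QuaternionGroup.a_mul_xa, QuaternionGroup.xa_mul_a, zero_sub, zero_add,
    QuaternionGroup.xa.injEq] at hc'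
  have h4 : ((4 : ℕ) : ZMod (2 * n)) = 0 := by
    have : (2 : ZMod (2 * n)) + 2 = 0 := by
      nth_rewrite 1 [← hc']; exact neg_add_cancel _
    calc ((4 : ℕ) : ZMod (2 * n)) = 2 + 2 := by norm_num
      _ = 0 := this
  rw [ZMod.natCast_eq_zero_iff] at h4
  have := Nat.le_of_dvd (by norm_num) h4
  omega

/-- The two cases: exponent `p`, or cyclic, or the quaternion group of order eight. -/
theorem exponent_or_small [Finite G] {p : ℕ} [hp : Fact p.Prime] (hD : ConjP p G) (P : Subgroup G)
    (hP : IsPGroup p P) :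
    (∀ x : P, x ^ p = 1) ∨ IsCyclic P ∨ (p = 2 ∧ Nonempty (P ≃* QuaternionGroup 2)) := by
  by_cases hexp : ∀ x : P, x ^ p = 1
  · exact Or.inl hexp
  refine Or.inr ?_
  push Not at hexp
  obtain ⟨x, hx⟩ := hexp
  obtain ⟨k, hk⟩ := IsPGroup.iff_orderOf.1 hP x
  have hk2 : 2 ≤ k := by
    by_contra h
    apply hx
    rw [← orderOf_dvd_iff_pow_eq_one, hk]
    interval_cases k <;> simp
  set c := x ^ p ^ (k - 2) with hc
  have hco : orderOf c = p ^ 2 := by
    rw [hc, orderOf_pow' _ (pow_ne_zero _ hp.out.ne_zero), hk, Nat.gcd_eq_right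
      (pow_dvd_pow p (by omega)), Nat.pow_div (by omega) hp.out.pos]
    congr 1; omega
  have hcyc : ∀ K : Subgroup P, Nat.card K = p ^ 2 → IsCyclic K := fun K hK =>
    (sub_transfer hD P hP (zpowers c) K (by rw [Nat.card_zpowers, hco, hK])).2 inferInstance
  have hnt : Nontrivial P := ⟨⟨x, 1, fun h => hx (by rw [h, one_pow])⟩⟩
  obtain ⟨C, -, hCZ, -, hCc⟩ := Fusion.exists_central_card_prime hP ⊤ (by
    intro h
    exact (top_ne_bot (α := Subgroup P)) h)
  have huniq : ∀ H : Subgroup P, Nat.card H = p → H = C := by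
    intro H hH
    by_contra hne
    have hntH : Nontrivial H := Finite.one_lt_card_iff_nontrivial.mp (by rw [hH]; exact hp.out.one_lt)
    obtain ⟨y, hy1⟩ := exists_ne (1 : H)
    have hyo : orderOf (y : P) = p := by
      have hd := orderOf_dvd_natCard y
      rw [hH] at hd
      rcases (Nat.dvd_prime hp.out).1 hd with h | h
      · exact absurd (orderOf_eq_one_iff.1 h) hy1
      · rw [Subgroup.orderOf_coe, h]
    have hHy : H = zpowers (y : P) :=
      (eq_of_le_of_card_ge (zpowers_le.2 y.2) (by rw [hH, Nat.card_zpowers, hyo])).symm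
    have hyC : (y : P) ∉ C := by
      intro hyC
      exact hne (eq_of_le_of_card_ge (hHy ▸ zpowers_le.2 hyC) (by rw [hH, hCc]))
    have hn : zpowers (y : P) ≤ normalizer (C : Set P) := by
      intro u _
      rw [mem_normalizer_iff]
      intro v
      constructor
      · intro hv
        rw [mem_center_iff.1 (hCZ hv) u, mul_inv_cancel_right]; exact hv
      · intro hv
        have := mem_center_iff.1 (hCZ hv) u⁻¹
        have e : v = u⁻¹ * (u * v * u⁻¹) * u := by group
        rw [e, this, inv_mul_cancel_right]; exact hv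
    have hcard := card_sup_prime C hyo hyC hn
    rw [hCc, ← sq] at hcard
    have hK := hcyc _ hcard
    apply hyC
    obtain ⟨g, hg⟩ := hK.exists_generator
    have hgo : orderOf g = p ^ 2 := by rw [orderOf_eq_card_of_forall_mem_zpowers hg, hcard]
    have key : ∀ w : P, w ∈ C ⊔ zpowers (y : P) → w ^ p = 1 → w ∈ zpowers ((g : P) ^ p) := by
      intro w hw hwp
      obtain ⟨i, hi⟩ := mem_zpowers_iff.1 (hg ⟨w, hw⟩)
      have h1 : (g : P) ^ i = w := by rw [← SubgroupClass.coe_zpow, hi]
      have h2 : ((p : ℤ)) ^ 2 ∣ i * p := by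
        rw [← Nat.cast_pow, ← hgo, ← Subgroup.orderOf_coe, orderOf_dvd_iff_zpow_eq_one, zpow_mul,
          h1, zpow_natCast, hwp]
      rw [sq] at h2
      obtain ⟨j, hj⟩ := (mul_dvd_mul_iff_right (by exact_mod_cast hp.out.ne_zero)).1 h2
      exact mem_zpowers_iff.2 ⟨j, by rw [← h1, hj, zpow_mul, zpow_natCast]⟩
    have hCle : C ≤ zpowers ((g : P) ^ p) := fun w hw => key w (mem_sup_left hw) (by
      have := orderOf_dvd_natCard (⟨w, hw⟩ : C)
      rw [hCc, orderOf_dvd_iff_pow_eq_one] at this
      exact congrArg Subtype.val this)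
    have hgp : Nat.card (zpowers ((g : P) ^ p)) = p := by
      rw [Nat.card_zpowers, orderOf_pow, Subgroup.orderOf_coe, hgo,
        Nat.gcd_eq_right (dvd_pow_self p two_ne_zero), sq, Nat.mul_div_cancel _ hp.out.pos]
    have hCeq : C = zpowers ((g : P) ^ p) := eq_of_le_of_card_ge hCle (by rw [hgp, hCc])
    rw [hCeq]
    exact key y (mem_sup_right (mem_zpowers _)) (by rw [← hyo]; exact pow_orderOf_eq_one _)
  rcases Fusion.cyclic_or_quaternion_of_unique hP (fun H K hH hK => (huniq H hH).trans (huniq K hK).symm)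
    with h | ⟨rfl, m, hm, ⟨e⟩⟩
  · exact Or.inl h
  · obtain rfl := quaternion_small hD P hP m hm e
    exact Or.inr ⟨rfl, ⟨e⟩⟩

end Cfsg.Agent.EqOrderConj
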