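import Cfsg.Agent.EqOrderConj.Local
import Mathlib.GroupTheory.Subgroup.Center

/-!
A nonabelian Sylow subgroup of exponent `p` forces an element inducing a quarter turn on an
elementary abelian group of order `p ^ 2`.
-/

set_option autoImplicit false

namespace Cfsg.Agent.EqOrderConj

open Subgroup

variable {G : Type*} [Group G] [Finite G] {p : ℕ} [hp : Fact p.Prime]

section PGroup

variable {H : Type*} [Group H] [Finite H]

theorem orderOf_of_exp (hexp : ∀ x : H, x ^ p = 1) {x : H} (hx : x ≠ 1) : orderOf x = p :=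
  orderOf_eq_prime (hexp x) hx

theorem exists_mem_center_two (hH : IsPGroup p H) (hnc : ∃ a b : H, ¬ Commute a b) :
    ∃ x : H, x ∉ center H ∧ ∀ y : H, y * x * y⁻¹ * x⁻¹ ∈ center H := by
  have hne : center H ≠ ⊤ := by
    intro h
    obtain ⟨a, b, hab⟩ := hnc
    exact hab ((mem_center_iff.1 (h ▸ mem_top b : b ∈ center H)) a)
  have hnt : Nontrivial (H ⧸ center H) := QuotientGroup.nontrivial_iff.2 hne
  have := (hH.to_quotient (center H)).center_nontrivial
  obtain ⟨⟨q, hq⟩, hq1⟩ := exists_ne (1 : center (H ⧸ center H))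
  obtain ⟨x, rfl⟩ := QuotientGroup.mk_surjective q
  refine ⟨x, fun hx => hq1 (Subtype.ext ((QuotientGroup.eq_one_iff _).2 hx)), fun y => ?_⟩
  rw [← QuotientGroup.eq_one_iff, QuotientGroup.mk_mul, QuotientGroup.mk_mul, QuotientGroup.mk_mul,
    mem_center_iff.1 hq y]
  simp

theorem center_of_card_cube (hH : IsPGroup p H) (hc : Nat.card H = p ^ 3)
    (hnc : ∃ a b : H, ¬ Commute a b) :
    Nat.card (center H) = p ∧ ∀ a b : H, a * b * a⁻¹ * b⁻¹ ∈ center H := by
  have hpr : p.Prime := hp.out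
  obtain ⟨k, hk3, hk⟩ := (Nat.dvd_prime_pow hpr).1 (hc ▸ card_subgroup_dvd_card (center H))
  have hidx := (center H).card_mul_index
  rw [hk, hc] at hidx
  have hnt : Nontrivial H := by
    obtain ⟨a, b, hab⟩ := hnc
    exact ⟨⟨a, 1, fun h => hab (h ▸ Commute.one_left b)⟩⟩
  have hk0 : k ≠ 0 := by
    rintro rfl
    have := hH.center_nontrivial
    rw [pow_zero] at hk
    exact absurd (Finite.one_lt_card_iff_nontrivial.mpr this) (by omega)
  have hk2 : k < 2 := by
    by_contra hge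
    have hi : (center H).index = p ^ (3 - k) := by
      have : p ^ k * p ^ (3 - k) = p ^ 3 := by rw [← pow_add]; congr 1; omega
      exact Nat.eq_of_mul_eq_mul_left (pow_pos hpr.pos k) (by rw [hidx, this])
    have hdvd : Nat.card (H ⧸ center H) ∣ p := by
      rw [← index_eq_card, hi]
      exact (pow_dvd_pow p (show 3 - k ≤ 1 by omega)).trans (by rw [pow_one])
    have := isCyclic_of_card_dvd_prime (p := p) hdvd
    obtain ⟨a, b, hab⟩ := hnc
    exact hab ((isMulCommutative_of_isCyclic_quotient_center_self H).is_comm.comm a b)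
  obtain rfl : k = 1 := by omega
  rw [pow_one] at hk
  refine ⟨hk, fun a b => ?_⟩
  have hq : Nat.card (H ⧸ center H) = p ^ 2 := by
    rw [← index_eq_card]
    rw [pow_one] at hidx
    exact Nat.eq_of_mul_eq_mul_left hpr.pos (by rw [hidx]; ring)
  rw [← QuotientGroup.eq_one_iff, QuotientGroup.mk_mul, QuotientGroup.mk_mul, QuotientGroup.mk_mul,
    IsPGroup.commutative_of_card_eq_prime_sq hq (a : H ⧸ center H) b]
  simp

/-- In exponent `p`, a noncentral element of a group of order `p ^ 3` is moved onto each of its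
translates by central elements. -/
theorem exists_shift (hH : IsPGroup p H) (hc : Nat.card H = p ^ 3)
    (hnc : ∃ a b : H, ¬ Commute a b) {u v : H} (hu : u ∉ center H) (hv : v ∈ center H) :
    ∃ b : H, b * u * b⁻¹ = v * u := by
  obtain ⟨hZ, hcomm⟩ := center_of_card_cube hH hc hnc
  obtain ⟨b₀, hb₀⟩ : ∃ b : H, b * u ≠ u * b := by
    by_contra h
    push Not at h
    exact hu (mem_center_iff.2 h)
  set d := b₀ * u * b₀⁻¹ * u⁻¹ with hd
  have hdZ : d ∈ center H := hcomm b₀ u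
  have hd1 : d ≠ 1 := by
    intro h
    apply hb₀
    rw [hd, mul_inv_eq_one, mul_inv_eq_iff_eq_mul] at h
    exact h
  have hgen : zpowers (⟨d, hdZ⟩ : center H) = ⊤ :=
    zpowers_eq_top_of_prime_card hZ (fun h => hd1 (congrArg Subtype.val h))
  obtain ⟨m, hm⟩ := mem_zpowers_iff.1 (hgen ▸ mem_top (⟨v, hv⟩ : center H))
  have hm' : d ^ m = v := congrArg Subtype.val hm
  have hpow : ∀ n : ℤ, b₀ ^ n * u * (b₀ ^ n)⁻¹ = d ^ n * u := by
    have hdc : ∀ y : H, y * d = d * y := fun y => mem_center_iff.1 hdZ y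
    have h1 : b₀ * u * b₀⁻¹ = d * u := by rw [hd]; group
    intro n
    induction n using Int.induction_on with
    | zero => simp
    | succ i ih =>
      rw [zpow_add_one, zpow_add_one, mul_inv_rev]
      have h2 : b₀ * d ^ (i : ℤ) = d ^ (i : ℤ) * b₀ := (Commute.zpow_right (hdc b₀) i).eq
      calc b₀ ^ (i : ℤ) * b₀ * u * (b₀⁻¹ * (b₀ ^ (i : ℤ))⁻¹)
          = b₀ ^ (i : ℤ) * (b₀ * u * b₀⁻¹) * (b₀ ^ (i : ℤ))⁻¹ := by group
        _ = b₀ ^ (i : ℤ) * d * ((b₀ ^ (i : ℤ))⁻¹ * b₀ ^ (i : ℤ)) * u * (b₀ ^ (i : ℤ))⁻¹ := by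
            rw [h1]; group
        _ = d * (b₀ ^ (i : ℤ) * u * (b₀ ^ (i : ℤ))⁻¹) := by rw [hdc (b₀ ^ (i : ℤ))]; group
        _ = d * (d ^ (i : ℤ) * u) := by rw [ih]
        _ = d ^ (i : ℤ) * d * u := by group
    | pred i ih =>
      have h3 : b₀⁻¹ * u * b₀ = d⁻¹ * u := by
        calc b₀⁻¹ * u * b₀ = b₀⁻¹ * (d⁻¹ * (d * u)) * b₀ := by group
          _ = b₀⁻¹ * (d⁻¹ * (b₀ * u * b₀⁻¹)) * b₀ := by rw [h1]
          _ = b₀⁻¹ * (d⁻¹ * b₀) * u := by group
          _ = b₀⁻¹ * (b₀ * d⁻¹) * u := by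
              rw [mem_center_iff.1 (inv_mem hdZ) b₀]
          _ = d⁻¹ * u := by group
      rw [zpow_sub_one, zpow_sub_one, mul_inv_rev, inv_inv]
      calc b₀ ^ (-(i : ℤ)) * b₀⁻¹ * u * (b₀ * (b₀ ^ (-(i : ℤ)))⁻¹)
          = b₀ ^ (-(i : ℤ)) * (b₀⁻¹ * u * b₀) * (b₀ ^ (-(i : ℤ)))⁻¹ := by group
        _ = b₀ ^ (-(i : ℤ)) * d⁻¹ * u * (b₀ ^ (-(i : ℤ)))⁻¹ := by rw [h3]; group
        _ = d⁻¹ * (b₀ ^ (-(i : ℤ)) * u * (b₀ ^ (-(i : ℤ)))⁻¹) := by
            rw [mem_center_iff.1 (inv_mem hdZ) (b₀ ^ (-(i : ℤ)))]; group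
        _ = d⁻¹ * (d ^ (-(i : ℤ)) * u) := by rw [ih]
        _ = d ^ (-(i : ℤ)) * d⁻¹ * u := by group
  exact ⟨b₀ ^ m, by rw [hpow, hm']⟩

end PGroup

theorem sup_commute {H : Type*} [Group H] {M : Subgroup H} {y : H}
    (hM : ∀ a ∈ M, ∀ b ∈ M, Commute a b) (hy : ∀ a ∈ M, Commute y a) :
    ∀ a ∈ M ⊔ zpowers y, ∀ b ∈ M ⊔ zpowers y, Commute a b := by
  have hle : M ⊔ zpowers y ≤ centralizer ((M : Set H) ∪ {y}) := by
    refine sup_le (fun a ha => ?_) (zpowers_le.2 ?_) <;> rw [mem_centralizer_iff] <;> intro c hc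
    · rcases hc with hc | hc
      · exact (hM c hc a ha).eq
      · rw [Set.mem_singleton_iff] at hc; subst hc; exact (hy a ha).eq
    · rcases hc with hc | hc
      · exact (hy c hc).eq.symm
      · rw [Set.mem_singleton_iff] at hc; subst hc; rfl
  intro a ha b hb
  have h2 : M ⊔ zpowers y ≤ centralizer {a} := by
    refine sup_le (fun c hc => ?_) (zpowers_le.2 ?_) <;> rw [mem_centralizer_singleton_iff]
    · exact (mem_centralizer_iff.1 (hle ha) c (Or.inl hc))
    · exact (mem_centralizer_iff.1 (hle ha) y (Or.inr rfl))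
  exact (mem_centralizer_singleton_iff.1 (h2 hb)).symm

/-- A nonabelian exponent `p` subgroup has order `p ^ 3`. -/
theorem card_eq_cube (hD : ConjP p G) (P : Subgroup G) (hP : IsPGroup p P)
    (hexp : ∀ x : P, x ^ p = 1) (hnc : ∃ a b : P, ¬ Commute a b) : Nat.card P = p ^ 3 := by
  have hpr : p.Prime := hp.out
  obtain ⟨x, hxZ, hx⟩ := exists_mem_center_two hP hnc
  obtain ⟨y, hy⟩ : ∃ y : P, y * x ≠ x * y := by
    by_contra h
    push Not at h
    exact hxZ (mem_center_iff.2 h)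
  have ne1 : ∀ {u : P} {M : Subgroup P}, u ∉ M → u ≠ 1 := fun hu h => hu (h ▸ one_mem _)
  set c := y * x * y⁻¹ * x⁻¹ with hc
  have hcZ : c ∈ center P := hx y
  have hcn : c ≠ 1 := by
    intro h
    apply hy
    rw [hc, mul_inv_eq_one, mul_inv_eq_iff_eq_mul] at h
    exact h
  have hcle : zpowers c ≤ center P := zpowers_le.2 hcZ
  have hnormC : ∀ (M : Subgroup P), M ≤ center P → ∀ u : P, zpowers u ≤ normalizer (M : Set P) := by
    intro M hM u v _
    rw [mem_normalizer_iff]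
    intro w
    constructor
    · intro hw
      rwa [mem_center_iff.1 (hM hw) v, mul_inv_cancel_right]
    · intro hw
      have e : v⁻¹ * (v * w * v⁻¹) * v = w := by group
      rw [← e, mem_center_iff.1 (hM hw) v⁻¹, inv_mul_cancel_right]
      exact hw
  set M := zpowers c ⊔ zpowers x with hMdef
  have hxc : x ∉ zpowers c := fun h => hxZ (hcle h)
  have hMc : Nat.card M = p ^ 2 := by
    rw [hMdef, card_sup_prime _ (orderOf_of_exp hexp (ne1 hxc)) hxc (hnormC _ hcle x),
      Nat.card_zpowers, orderOf_of_exp hexp hcn, sq]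
  have hMcomm : ∀ a ∈ M, ∀ b ∈ M, Commute a b := sup_commute
    (fun a ha b hb => by
      obtain ⟨i, rfl⟩ := mem_zpowers_iff.1 ha
      obtain ⟨j, rfl⟩ := mem_zpowers_iff.1 hb
      exact Commute.zpow_zpow_self c i j)
    (fun a ha => mem_center_iff.1 (hcle ha) x)
  have hyM : y ∉ M := fun h => hy (hMcomm y h x (mem_sup_right (mem_zpowers x))).eq
  have hyn : zpowers y ≤ normalizer (M : Set P) := by
    rw [zpowers_le]
    have hmap : M.map (MulAut.conj y).toMonoidHom = M := by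
      refine eq_of_le_of_card_ge ?_ (by rw [card_map_of_injective (MulEquiv.injective _)])
      rw [hMdef, Subgroup.map_sup, MonoidHom.map_zpowers, MonoidHom.map_zpowers]
      refine sup_le (zpowers_le.2 ?_) (zpowers_le.2 ?_)
      · show y * c * y⁻¹ ∈ _
        rw [mem_center_iff.1 hcZ y, mul_inv_cancel_right]
        exact mem_sup_left (mem_zpowers c)
      · show y * x * y⁻¹ ∈ _
        rw [show y * x * y⁻¹ = c * x by rw [hc]; group]
        exact mul_mem (mem_sup_left (mem_zpowers c)) (mem_sup_right (mem_zpowers x))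
    rw [mem_normalizer_iff]
    intro w
    conv_rhs => rw [← hmap]
    constructor
    · intro hw; exact ⟨w, hw, rfl⟩
    · rintro ⟨w', hw', he⟩
      have : w' = w := (MulAut.conj y).injective he
      exact this ▸ hw'
  set E := M ⊔ zpowers y with hEdef
  have hEc : Nat.card E = p ^ 3 := by
    rw [hEdef, card_sup_prime _ (orderOf_of_exp hexp (ne1 hyM)) hyM hyn, hMc]; ring
  obtain ⟨n, hn⟩ := IsPGroup.iff_card.1 hP
  have h3n : 3 ≤ n := by
    have := card_subgroup_dvd_card E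
    rw [hEc, hn] at this
    exact Nat.pow_dvd_pow_iff_le_right hpr.one_lt |>.1 this
  by_contra hne
  have h4n : 4 ≤ n := by
    rcases Nat.lt_or_ge n 4 with h | h
    · exact absurd (by rw [hn]; congr 1; omega) hne
    · exact h
  suffices h : ∃ A : Subgroup P, Nat.card A = p ^ 3 ∧ ∀ a ∈ A, ∀ b ∈ A, Commute a b by
    obtain ⟨A, hA, hAc⟩ := h
    have := (sub_transfer hD P hP A E (by rw [hA, hEc])).1 hAc
    exact hy (this y (mem_sup_right (mem_zpowers y)) x
      (mem_sup_left (mem_sup_right (mem_zpowers x)))).eq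
  obtain ⟨k, hk⟩ := IsPGroup.iff_card.1 (hP.to_subgroup (center P))
  rcases Nat.lt_or_ge k 2 with hk2 | hk2
  · let φ : P →* center P :=
      { toFun := fun u => ⟨u * x * u⁻¹ * x⁻¹, hx u⟩
        map_one' := Subtype.ext (by simp)
        map_mul' := fun u v => Subtype.ext (by
          show u * v * x * (u * v)⁻¹ * x⁻¹ = u * x * u⁻¹ * x⁻¹ * (v * x * v⁻¹ * x⁻¹)
          have h1 : u * v * x * (u * v)⁻¹ * x⁻¹ =
              u * (v * x * v⁻¹ * x⁻¹) * (x * u⁻¹ * x⁻¹) := by group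
          rw [h1, mem_center_iff.1 (hx v) u, mem_center_iff.1 (hx v) (u * x * u⁻¹ * x⁻¹)]
          group) }
    have hker : p ^ 3 ≤ Nat.card φ.ker := by
      have h1 := φ.ker.card_mul_index
      rw [index_ker, hn] at h1
      have h2 : Nat.card φ.range ≤ p := by
        refine le_trans (Subgroup.card_le_card_group φ.range) ?_
        rw [hk]
        exact (Nat.pow_le_pow_right hpr.pos (show k ≤ 1 by omega)).trans (by rw [pow_one])
      have h3 : p ^ 4 ≤ Nat.card φ.ker * p :=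
        (Nat.pow_le_pow_right hpr.pos h4n).trans (h1 ▸ Nat.mul_le_mul_left _ h2)
      exact Nat.le_of_mul_le_mul_right (by rw [← pow_succ]; exact h3) hpr.pos
    obtain ⟨w, hw, hwM⟩ : ∃ w ∈ φ.ker, w ∉ M := by
      by_contra h
      push Not at h
      have := Subgroup.card_le_of_le (show φ.ker ≤ M from h)
      rw [hMc] at this
      exact absurd (hker.trans this) (not_le.2 (Nat.pow_lt_pow_right hpr.one_lt (by norm_num)))
    have hwx : Commute w x := by
      have := congrArg Subtype.val (MonoidHom.mem_ker.1 hw)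
      change w * x * w⁻¹ * x⁻¹ = 1 at this
      rw [mul_inv_eq_one, mul_inv_eq_iff_eq_mul] at this
      exact this
    have hwall : ∀ a ∈ M, Commute w a := fun a ha => by
      have hle : M ≤ centralizer {w} := sup_le
        (zpowers_le.2 (mem_centralizer_singleton_iff.2 (mem_center_iff.1 hcZ w).symm))
        (zpowers_le.2 (mem_centralizer_singleton_iff.2 hwx.eq.symm))
      exact (mem_centralizer_singleton_iff.1 (hle ha)).symm
    refine ⟨M ⊔ zpowers w, ?_, sup_commute hMcomm hwall⟩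
    rw [card_sup_prime _ (orderOf_of_exp hexp (ne1 hwM)) hwM (zpowers_le.2 ?_), hMc]
    · ring
    · rw [mem_normalizer_iff]
      intro a
      constructor
      · intro ha; rwa [(hwall a ha).eq, mul_inv_cancel_right]
      · intro ha
        have e : w⁻¹ * (w * a * w⁻¹) * w = a := by group
        rw [← e, ((hwall _ ha).inv_left).eq, inv_mul_cancel_right]; exact ha
  · obtain ⟨D, hDc⟩ := Sylow.exists_subgroup_card_pow_prime p (n := 2)
      (show p ^ 2 ∣ Nat.card (center P) by rw [hk]; exact pow_dvd_pow p hk2)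
    set D' := D.map (center P).subtype with hD'
    have hD'c : Nat.card D' = p ^ 2 := by
      rw [hD', card_map_of_injective (center P).subtype_injective, hDc]
    have hD'le : D' ≤ center P := map_subtype_le _
    have hxD : x ∉ D' := fun h => hxZ (hD'le h)
    refine ⟨D' ⊔ zpowers x, ?_, sup_commute
      (fun a ha b _ => (mem_center_iff.1 (hD'le ha) b).symm)
      (fun a ha => mem_center_iff.1 (hD'le ha) x)⟩
    rw [card_sup_prime _ (orderOf_of_exp hexp (ne1 hxD)) hxD (hnormC _ hD'le x), hD'c]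
    ring

/-- The quarter turn. -/
theorem exists_turn (hD : ConjP p G) (P : Sylow p G) (hexp : ∀ x : P, x ^ p = 1)
    (hnc : ∃ a b : P, ¬ Commute a b) {z x : P} (hz : z ∈ center (P : Subgroup G)) (hz1 : z ≠ 1)
    (hx : x ∉ center (P : Subgroup G)) :
    ∃ a b h : G, a ∈ (P : Subgroup G) ∧ b ∈ (P : Subgroup G) ∧
      (a * (h * b * h⁻¹)⁻¹ * a) * z * (a * (h * b * h⁻¹)⁻¹ * a)⁻¹ = ((x : G))⁻¹ ∧
      (a * (h * b * h⁻¹)⁻¹ * a) * x * (a * (h * b * h⁻¹)⁻¹ * a)⁻¹ = z := by
  have hpr : p.Prime := hp.out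
  have hc3 := card_eq_cube hD (P : Subgroup G) P.isPGroup' hexp hnc
  have hx1 : x ≠ 1 := fun h => hx (h ▸ one_mem _)
  have hxo : orderOf (x : G) = p := by rw [Subgroup.orderOf_coe]; exact orderOf_of_exp hexp hx1
  have hzo : orderOf (z : G) = p := by rw [Subgroup.orderOf_coe]; exact orderOf_of_exp hexp hz1
  have hzc : ∀ u ∈ (P : Subgroup G), u * (z : G) = z * u := fun u hu =>
    congrArg Subtype.val (mem_center_iff.1 hz ⟨u, hu⟩)
  obtain ⟨g, hg⟩ := hD (zpowers (z : G)) (zpowers (x : G)) (P.isPGroup'.to_le (zpowers_le.2 z.2))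
    (P.isPGroup'.to_le (zpowers_le.2 x.2)) (by rw [Nat.card_zpowers, Nat.card_zpowers, hxo, hzo])
  rw [MonoidHom.map_zpowers] at hg
  change zpowers (x : G) = zpowers (g * z * g⁻¹) at hg
  obtain ⟨i, hi⟩ := mem_zpowers_iff.1 (hg ▸ mem_zpowers (x : G) : (x : G) ∈ zpowers (g * z * g⁻¹))
  set C := centralizer ({(x : G)} : Set G) with hC
  have hRC : ∀ u ∈ (P : Subgroup G), g * u * g⁻¹ ∈ C := by
    intro u hu
    rw [hC, mem_centralizer_singleton_iff, ← hi]
    have hcm : Commute u (z : G) := hzc u hu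
    exact ((hcm.map (MulAut.conj g).toMonoidHom).zpow_right i).eq
  have hRle : ((g • P : Sylow p G) : Subgroup G) ≤ C := by
    intro v hv
    rw [Sylow.coe_subgroup_smul, mem_pointwise_smul_iff_inv_smul_mem] at hv
    have hv' : g⁻¹ * v * g ∈ (P : Subgroup G) := by simpa [MulAut.smul_def] using hv
    have := hRC _ hv'
    rwa [show g * (g⁻¹ * v * g) * g⁻¹ = v by group] at this
  have hzC : (z : G) ∈ C := mem_centralizer_singleton_iff.2 (hzc x x.2).symm
  obtain ⟨T, hT⟩ := (IsPGroup.iff_card.2 ⟨1, by rw [Nat.card_zpowers, pow_one, Subgroup.orderOf_mk, hzo]⟩ : IsPGroup p (zpowers (⟨(z : G), hzC⟩ : C))).exists_le_sylow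
  obtain ⟨c, hcT⟩ := MulAction.exists_smul_eq C ((g • P : Sylow p G).subtype hRle) T
  set h := (c : G) * g with hhdef
  have hcx : (c : G) * x = x * c := mem_centralizer_singleton_iff.1 c.2
  have hzh : h⁻¹ * z * h ∈ (P : Subgroup G) := by
    have h1 : (⟨(z : G), hzC⟩ : C) ∈ T := hT (mem_zpowers _)
    rw [← hcT] at h1
    change (⟨(z : G), hzC⟩ : C) ∈ ((c • (g • P : Sylow p G).subtype hRle : Sylow p C) :
      Subgroup C) at h1
    rw [Sylow.coe_subgroup_smul, mem_pointwise_smul_iff_inv_smul_mem] at h1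
    simp only [MulAut.smul_def, Sylow.coe_subtype, mem_subgroupOf, MulAut.conj_inv_apply,
      Subgroup.coe_mul, Subgroup.coe_inv] at h1
    rw [Sylow.coe_subgroup_smul, mem_pointwise_smul_iff_inv_smul_mem] at h1
    simp only [MulAut.smul_def, MulAut.conj_inv_apply] at h1
    rw [hhdef, show ((c : G) * g)⁻¹ * z * ((c : G) * g) = g⁻¹ * ((c : G)⁻¹ * z * c) * g by group]
    exact h1
  have hxh : (h⁻¹ * x * h) = (z : G) ^ i := by
    rw [hhdef, show ((c : G) * g)⁻¹ * x * ((c : G) * g) = g⁻¹ * ((c : G)⁻¹ * (x * c)) * g by group,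
      ← hcx, inv_mul_cancel_left, ← hi, conj_zpow]
    group
  set u : P := ⟨h⁻¹ * z * h, hzh⟩ with hu
  have hxmem : h⁻¹ * x * h ∈ (P : Subgroup G) := hxh ▸ zpow_mem z.2 i
  set v : P := ⟨h⁻¹ * x * h, hxmem⟩ with hv
  have hvz : v = z ^ i := Subtype.ext (by rw [hv, SubgroupClass.coe_zpow]; exact hxh)
  have hvZ : v ∈ center (P : Subgroup G) := hvz ▸ zpow_mem hz i
  obtain ⟨hZc, -⟩ := center_of_card_cube P.isPGroup' hc3 hnc
  have huZ : u ∉ center (P : Subgroup G) := by
    intro huZ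
    have hv1 : (⟨v, hvZ⟩ : center (P : Subgroup G)) ≠ 1 := by
      intro h1
      have h2 : h⁻¹ * x * h = 1 := congrArg (fun w : center (P : Subgroup G) => ((w : P) : G)) h1
      apply hx1
      apply Subtype.ext
      show (x : G) = 1
      rw [show (x : G) = h * (h⁻¹ * x * h) * h⁻¹ by group, h2]; group
    obtain ⟨j, hj⟩ := mem_zpowers_iff.1
      (zpowers_eq_top_of_prime_card hZc hv1 ▸ mem_top (⟨u, huZ⟩ : center (P : Subgroup G)))
    have h3 : (h⁻¹ * x * h) ^ j = h⁻¹ * z * h := by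
      have := congrArg (fun w : center (P : Subgroup G) => ((w : P) : G)) hj
      simpa [SubgroupClass.coe_zpow] using this
    have h4 : (x : G) ^ j = z := by
      have h5 : h * (h⁻¹ * x * h) ^ j * h⁻¹ = (x : G) ^ j := by
        rw [← conj_zpow]; group
      rw [← h5, h3]; group
    have hzP : z = x ^ j := Subtype.ext (by rw [SubgroupClass.coe_zpow, h4])
    have hzne : (⟨z, hz⟩ : center (P : Subgroup G)) ≠ 1 := fun h => hz1 (congrArg Subtype.val h)
    apply hx
    have hxz : x ∈ zpowers z := by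
      have hle : zpowers z ≤ zpowers x := zpowers_le.2 (hzP ▸ zpow_mem (mem_zpowers x) j)
      rw [eq_of_le_of_card_ge hle (by
        rw [Nat.card_zpowers, Nat.card_zpowers, orderOf_of_exp hexp hz1, orderOf_of_exp hexp hx1])]
      exact mem_zpowers x
    exact zpowers_le.2 hz hxz
  obtain ⟨a, ha⟩ := exists_shift P.isPGroup' hc3 hnc hx hz
  obtain ⟨b, hb⟩ := exists_shift P.isPGroup' hc3 hnc huZ hvZ
  refine ⟨a, b, h, a.2, b.2, ?_⟩
  set A := MulAut.conj (a : G) with hA
  set B := MulAut.conj (h * (b : G) * h⁻¹) with hB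
  have ea1 : A z = z := by
    show (a : G) * z * (a : G)⁻¹ = z
    rw [hzc a a.2, mul_inv_cancel_right]
  have ea2 : A x = z * x := congrArg Subtype.val ha
  have eb1 : B z = x * z := by
    have := congrArg Subtype.val hb
    change (b : G) * (h⁻¹ * z * h) * (b : G)⁻¹ = h⁻¹ * x * h * (h⁻¹ * z * h) at this
    show h * (b : G) * h⁻¹ * z * (h * (b : G) * h⁻¹)⁻¹ = x * z
    rw [show h * (b : G) * h⁻¹ * z * (h * (b : G) * h⁻¹)⁻¹ =
      h * ((b : G) * (h⁻¹ * z * h) * (b : G)⁻¹) * h⁻¹ by group, this]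
    group
  have eb2 : B x = x := by
    have := congrArg Subtype.val (mem_center_iff.1 hvZ b)
    change (b : G) * (h⁻¹ * x * h) = h⁻¹ * x * h * b at this
    show h * (b : G) * h⁻¹ * x * (h * (b : G) * h⁻¹)⁻¹ = x
    rw [show h * (b : G) * h⁻¹ * x * (h * (b : G) * h⁻¹)⁻¹ =
      h * ((b : G) * (h⁻¹ * x * h) * (b : G)⁻¹) * h⁻¹ by group, this]
    group
  have ebs2 : B.symm x = x := by rw [MulEquiv.symm_apply_eq]; exact eb2.symm
  have hcomm : Commute (x : G) z := hzc x x.2
  have ebs1 : B.symm z = (x : G)⁻¹ * z := by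
    rw [MulEquiv.symm_apply_eq, map_mul, map_inv, eb2, eb1, inv_mul_cancel_left]
  have key : ∀ q : G, (a * (h * b * h⁻¹)⁻¹ * a) * q * (a * (h * b * h⁻¹)⁻¹ * a)⁻¹ =
      A (B.symm (A q)) := by
    intro q
    simp only [hA, hB, MulAut.conj_apply, MulAut.conj_symm_apply]
    group
  constructor
  · rw [key, ea1, ebs1, map_mul, map_inv, ea2, ea1]
    rw [mul_inv_rev, inv_mul_cancel_right]
  · rw [key, ea2, map_mul, ebs1, ebs2, map_mul, map_mul, map_inv, ea1, ea2]
    rw [mul_assoc, ((Commute.refl (z : G)).mul_right hcomm.symm).eq, inv_mul_cancel_left]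

end Cfsg.Agent.EqOrderConj
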